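import Groth.Agent.DeltaNorm.AxesPoint
import Groth.Agent.CplLim.Basic
import Mathlib.RingTheory.Flat.FaithfullyFlat.Algebra
import Mathlib.RingTheory.Flat.TorsionFree
import Mathlib.RingTheory.PowerSeries.Inverse

/-! Frobenius and normalization of nodal rings: `c^p = a d^p` forces `d ∣ c`; semilinear injective maps are
surjective; a five lemma. -/

set_option autoImplicit false
universe u

open scoped nonZeroDivisors

namespace Groth.Agent.FrobNorm

/-- The axes ring contains every element of its total fraction ring whose `p`-th power it contains. -/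
theorem dvd_of_pow_eq_axes {K : Type u} [Field K] (p : ℕ) [hp : Fact p.Prime] [CharP K p] {n : ℕ} (hn : 1 ≤ n)
    {R : Type u} [CommRing R] (e : R ≃+* MvPowerSeries (Fin n) K ⧸ DeltaNorm.axesIdeal K n)
    {a c d : R} (hd : d ∈ R⁰) (h : c ^ p = a * d ^ p) : d ∣ c := by
  classical
  obtain ⟨φ, hφ, hr⟩ := DeltaNorm.exists_embedding K n hn e
  have hdi : ∀ i, φ d i ≠ 0 := fun i hi => by
    obtain ⟨x, hx⟩ : (Pi.single i (PowerSeries.X : PowerSeries K)) ∈ Set.range φ := by
      rw [hr]
      intro a b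
      rcases eq_or_ne a i with rfl | ha <;> rcases eq_or_ne b a with rfl | hb <;>
        simp [Pi.single_apply] <;> split_ifs <;> simp
    have hx0 : x * d = 0 := hφ (funext fun j => by
      rw [map_mul, map_zero, Pi.mul_apply, hx, Pi.zero_apply]
      rcases eq_or_ne j i with rfl | hj
      · rw [hi, mul_zero]
      · rw [Pi.single_eq_of_ne hj, zero_mul])
    rw [mem_nonZeroDivisors_iff_right.1 hd x hx0, map_zero] at hx
    exact PowerSeries.X_ne_zero (R := K) (by simpa using (congrFun hx i).symm)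
  have hpow : ∀ i, φ c i ^ p = φ a i * φ d i ^ p := fun i => by
    have := congrFun (congrArg φ h) i
    simpa using this
  have hdvd : ∀ i, φ d i ∣ φ c i := fun i =>
    (IsIntegrallyClosed.pow_dvd_pow_iff hp.out.ne_zero).1 ⟨φ a i, (hpow i).trans (mul_comm _ _)⟩
  choose f hf using hdvd
  have hfp : ∀ i, f i ^ p = φ a i := fun i => by
    refine mul_left_cancel₀ (pow_ne_zero p (hdi i)) ?_
    rw [← mul_pow, ← hf, hpow, mul_comm]
  obtain ⟨x, hx⟩ : f ∈ Set.range φ := by
    rw [hr]
    intro i j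
    refine frobenius_inj K p ?_
    rw [frobenius_def, frobenius_def, ← map_pow, ← map_pow, hfp, hfp]
    have := (hr.le ⟨a, rfl⟩) i j
    exact this
  exact ⟨x, hφ (funext fun i => by rw [map_mul, Pi.mul_apply, hx, hf])⟩

/-- Divisibility descends along a faithfully flat map. -/
theorem dvd_of_dvd_map {A B : Type u} [CommRing A] [CommRing B] [Algebra A B] [Module.FaithfullyFlat A B]
    {c d : A} (h : algebraMap A B d ∣ algebraMap A B c) : d ∣ c := by
  rw [← Ideal.mem_span_singleton, ← Ideal.comap_map_eq_self_of_faithfullyFlat (B := B) (Ideal.span {d}),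
    Ideal.mem_comap, Ideal.map_span, Set.image_singleton, Ideal.mem_span_singleton]
  exact h

/-- A local Noetherian ring with completion the axes ring. -/
theorem dvd_of_pow_eq_completion {K : Type u} [Field K] (p : ℕ) [Fact p.Prime] [CharP K p] {n : ℕ} (hn : 1 ≤ n)
    {B : Type u} [CommRing B] [IsLocalRing B] [IsNoetherianRing B]
    (e : AdicCompletion (IsLocalRing.maximalIdeal B) B ≃+* MvPowerSeries (Fin n) K ⧸ DeltaNorm.axesIdeal K n)
    {a c d : B} (hd : d ∈ B⁰) (h : c ^ p = a * d ^ p) : d ∣ c := by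
  haveI : Module.FaithfullyFlat B (AdicCompletion (IsLocalRing.maximalIdeal B) B) :=
    CplLim.faithfullyFlat_completion B
  let f := algebraMap B (AdicCompletion (IsLocalRing.maximalIdeal B) B)
  refine dvd_of_dvd_map (dvd_of_pow_eq_axes p hn e (a := f a) (c := f c) (d := f d) ?_ ?_)
  · have := Module.Flat.isSMulRegular_of_nonZeroDivisors (M := AdicCompletion (IsLocalRing.maximalIdeal B) B) hd
    refine mem_nonZeroDivisors_iff_right.2 fun x hx => this ?_
    show d • x = d • (0 : AdicCompletion (IsLocalRing.maximalIdeal B) B)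
    rw [smul_zero, Algebra.smul_def, mul_comm]
    exact hx
  · rw [← map_pow, ← map_pow, ← map_mul, h]

theorem dvd_of_pow_eq_equiv {A B : Type u} [CommRing A] [CommRing B] (σ : A ≃+* B) (p : ℕ)
    (hB : ∀ a c d : B, d ∈ B⁰ → c ^ p = a * d ^ p → d ∣ c) {a c d : A} (hd : d ∈ A⁰)
    (h : c ^ p = a * d ^ p) : d ∣ c := by
  refine (map_dvd_iff σ).1 (hB (σ a) (σ c) (σ d) ?_ (by rw [← map_pow, ← map_pow, ← map_mul, h]))
  refine mem_nonZeroDivisors_iff_right.2 fun x hx => σ.symm.injective ?_
  rw [map_zero]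
  refine mem_nonZeroDivisors_iff_right.1 hd _ ?_
  simpa using congrArg σ.symm hx

theorem dvd_of_pow_eq_normal {A : Type u} [CommRing A] [IsDomain A] [IsIntegrallyClosed A] (p : ℕ) (hp : p ≠ 0)
    {a c d : A} (h : c ^ p = a * d ^ p) : d ∣ c :=
  (IsIntegrallyClosed.pow_dvd_pow_iff hp).1 ⟨a, h.trans (mul_comm _ _)⟩

/-- `p`-th roots in reduced rings of characteristic `p` are unique. -/
theorem pow_inj {R : Type u} [CommRing R] [IsReduced R] (p : ℕ) [hp : Fact p.Prime] (h0 : (p : R) = 0)
    {a b : R} (h : a ^ p = b ^ p) : a = b := by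
  rcases subsingleton_or_nontrivial R with h1 | h1
  · exact Subsingleton.elim _ _
  · haveI : CharP R p := (CharP.charP_iff_prime_eq_zero hp.out).2 h0
    exact frobenius_inj R p h

/-- An injective Frobenius-semilinear endomorphism of a finite-dimensional space over a perfect field is
surjective. -/
theorem surjective_of_semilinear {k V : Type*} [Field k] [AddCommGroup V] [Module k V] [Module.Finite k V]
    (p : ℕ) (hk : ∀ c : k, ∃ e : k, e ^ p = c) (T : V →+ V) (hT : ∀ (c : k) (v : V), T (c • v) = c ^ p • T v)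
    (hi : Function.Injective T) : Function.Surjective T := by
  let b := Module.finBasis k V
  choose r hr using hk
  have key : ∀ g : Fin (Module.finrank k V) → k, ∑ i, g i • T (b i) = T (∑ i, r (g i) • b i) := fun g => by
    rw [map_sum]
    refine Finset.sum_congr rfl fun i _ => ?_
    rw [hT, hr]
  have hli : LinearIndependent k fun i => T (b i) := Fintype.linearIndependent_iff.2 fun g hg i => by
    rw [key, ← map_zero T] at hg
    have h1 := Fintype.linearIndependent_iff.1 b.linearIndependent _ (hi hg) i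
    rw [← hr (g i), h1, zero_pow]
    rintro rfl
    exact zero_ne_one ((hr 0).symm.trans (pow_zero _))
  have hsp := hli.span_eq_top_of_card_eq_finrank' (Fintype.card_fin _)
  intro v
  obtain ⟨g, hg⟩ := (Submodule.mem_span_range_iff_exists_fun k).1 (hsp.ge (Submodule.mem_top (x := v)))
  exact ⟨_, (key g).symm.trans hg⟩

/-- The five lemma in the shape needed here. -/
theorem bijective_iff_of_les {P0 Q0 A B : Type*} [AddCommGroup P0] [AddCommGroup Q0] [AddCommGroup A] [AddCommGroup B]
    (g : P0 →+ Q0) (δ : Q0 →+ A) (f : A →+ B) (ψ0 : P0 →+ P0) (θ : Q0 →+ Q0) (φ : A →+ A) (ψ : B →+ B)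
    (hg : ∀ q, δ q = 0 ↔ ∃ b, g b = q) (hδ : ∀ a, f a = 0 ↔ ∃ q, δ q = a) (hf : Function.Surjective f)
    (h1 : ∀ b, g (ψ0 b) = θ (g b)) (h2 : ∀ q, δ (θ q) = φ (δ q)) (h3 : ∀ a, f (φ a) = ψ (f a))
    (hψ0 : Function.Surjective ψ0) (hθ : Function.Bijective θ) :
    Function.Bijective φ ↔ Function.Bijective ψ := by
  constructor
  · intro hφ
    refine ⟨(injective_iff_map_eq_zero _).2 fun z hz => ?_, fun z => ?_⟩
    · obtain ⟨x, rfl⟩ := hf z
      obtain ⟨q, hq⟩ := (hδ _).1 ((h3 x).trans hz)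
      obtain ⟨q', rfl⟩ := hθ.2 q
      exact (hδ x).2 ⟨q', hφ.1 ((h2 q').symm.trans hq)⟩
    · obtain ⟨y, rfl⟩ := hf z
      obtain ⟨x, rfl⟩ := hφ.2 y
      exact ⟨f x, (h3 x).symm⟩
  · intro hψ
    refine ⟨(injective_iff_map_eq_zero _).2 fun x hx => ?_, fun y => ?_⟩
    · obtain ⟨q, rfl⟩ := (hδ x).1 (hψ.1 (by rw [← h3, hx, map_zero, map_zero]))
      obtain ⟨b, hb⟩ := (hg _).1 ((h2 q).trans hx)
      obtain ⟨b', rfl⟩ := hψ0 b
      exact (hg q).2 ⟨b', hθ.1 ((h1 b').symm.trans hb)⟩
    · obtain ⟨z, hz⟩ := hψ.2 (f y)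
      obtain ⟨x, rfl⟩ := hf z
      obtain ⟨q, hq⟩ := (hδ (y - φ x)).1 (by rw [map_sub, h3, hz, sub_self])
      obtain ⟨q', rfl⟩ := hθ.2 q
      exact ⟨x + δ q', by rw [map_add, ← h2, hq, add_sub_cancel]⟩

end Groth.Agent.FrobNorm
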