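import Groth.Agent.FrobNorm.Sch
import Groth.Agent.SuppZero.Basic
import Groth.Agent.CohFinite.PushLinear
import Groth.Agent.CurveRR.GGVanish
import Groth.Agent.DualPush.Basic
import Groth.Agent.CurveCompl.Basic
import Groth.Agent.DimChain.Morphism
import Groth.Agent.TopDegRep.Basic

/-! `H¹` of Frobenius of a curve with `p`-closed stalks in its normalization. -/

set_option autoImplicit false
set_option backward.isDefEq.respectTransparency false
set_option backward.isDefEq.respectTransparency.types false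
set_option maxHeartbeats 2000000
universe u

open CategoryTheory CategoryTheory.Limits AlgebraicGeometry TopologicalSpace Opposite
open Groth.Agent.QC (res resO res_res res_smul)
open scoped nonZeroDivisors

namespace Groth.Agent.FrobNorm

open Groth.Agent

attribute [local instance] CurveRR.secMod

theorem bijective_H0_map {X : Scheme.{u}} {F G : Sheaf (Opens.grothendieckTopology X) AddCommGrpCat.{u}} (f : F ⟶ G)
    (hf : Function.Bijective (f.hom.app (op (⊤ : X.Opens)))) : Function.Bijective (Sheaf.H.map f 0) := by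
  let eF := Sheaf.H.equiv₀ F (Limits.isTerminalTop (α := X.Opens))
  let eG := Sheaf.H.equiv₀ G (Limits.isTerminalTop (α := X.Opens))
  have h : ∀ x, Sheaf.H.map f 0 (eF.symm x) = eG.symm (f.hom.app (op ⊤) x) :=
    Sheaf.H.equiv₀_symm_naturality (Limits.isTerminalTop (α := X.Opens)) f
  refine ⟨fun x y hxy => ?_, fun y => ?_⟩
  · obtain ⟨x, rfl⟩ := eF.symm.surjective x
    obtain ⟨y, rfl⟩ := eF.symm.surjective y
    rw [h, h] at hxy
    rw [hf.1 (eG.symm.injective hxy)]
  · obtain ⟨y, rfl⟩ := eG.symm.surjective y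
    obtain ⟨x, rfl⟩ := hf.2 y
    exact ⟨eF.symm x, h x⟩

/-- **Frobenius on `H¹` and normalization.** -/
theorem bijective_H1_iff {k : Type u} [Field k] [PerfectField k] (p : ℕ) [Fact p.Prime] [CharP k p]
    {C : Scheme.{u}} [C.Over (Spec (CommRingCat.of k))] [AlgebraicGeometry.IsReduced C]
    [IsProper (C ↘ Spec (CommRingCat.of k))] (hdim : topologicalKrullDim C ≤ 1)
    (hR : ∀ x : C, IsClosed ({x} : Set C) → ∀ a c d : C.presheaf.stalk x, d ∈ (C.presheaf.stalk x)⁰ →
      c ^ p = a * d ^ p → d ∣ c)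
    {C' : Scheme.{u}} (π : C' ⟶ C) [IsFinite π] (hC' : Pi1.IsNormalScheme C')
    (U : C.Opens) (hU : Dense (U : Set C)) (hπU : IsIso (π ∣_ U))
    (φ : Coh.toAb (Coh.structureModule C) ⟶ Coh.toAb (Coh.structureModule C))
    (hφ : ∀ (V : C.Opens) (s : Γ(C, V)), (φ.hom.app (op V)).hom s = s ^ p)
    (φ' : Coh.toAb (Coh.structureModule C') ⟶ Coh.toAb (Coh.structureModule C'))
    (hφ' : ∀ (V : C'.Opens) (s : Γ(C', V)), (φ'.hom.app (op V)).hom s = s ^ p) :
    Function.Bijective (Sheaf.H.map φ 1) ↔ Function.Bijective (Sheaf.H.map φ' 1) := by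
  classical
  letI : C'.Over (Spec (CommRingCat.of k)) := ⟨π ≫ (C ↘ (Spec (CommRingCat.of k)))⟩
  haveI := CurveRR.isNoetherian_of_proper k C
  haveI : IsLocallyNoetherian C' := LocallyOfFiniteType.isLocallyNoetherian π
  haveI : AlgebraicGeometry.IsReduced C' := by
    haveI : ∀ x : C', _root_.IsReduced (C'.presheaf.stalk x) := fun x => haveI := (hC' x).1; inferInstance
    exact isReduced_of_isReduced_stalk C'
  have hpk : ∀ c : k, ∃ e : k, e ^ p = c := fun c => by
    haveI : ExpChar k p := ExpChar.prime Fact.out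
    haveI : PerfectRing k p := PerfectField.toPerfectRing p
    exact (bijective_frobenius k p).2 c
  have hchar : ∀ V : C'.Opens, (p : Γ(C', V)) = 0 := fun V => by
    rw [← map_natCast ((resO C' (le_top : V ≤ ⊤)).comp (Coh.toGlobal (C' ↘ Spec (CommRingCat.of k)))),
      CharP.cast_eq_zero, map_zero]
  -- the sequence
  haveI := DeltaNorm.mono_unitToPush π U hU hπU
  let P : C.Modules := (Scheme.Modules.pushforward π).obj (Coh.structureModule C')
  let Q : C.Modules := DeltaNorm.Q π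
  let πQ : P ⟶ Q := cokernel.π (ClSub.unitToPush π)
  have hP : Coh.IsCoh P :=
    QC.isCoh_pushforward_of_isFinite (hM := QC.isQCoh_unit C') π (RefStalk.isCoh_structureModule (X := C')).2
  have hO := RefStalk.isCoh_structureModule (X := C)
  have hQ : Coh.IsCoh Q := QC.isCoh_cokernel hO.1 hP _
  have hS : (ShortComplex.mk (ClSub.unitToPush π) πQ (cokernel.condition _)).ShortExact :=
    { exact := ShortComplex.exact_cokernel _, mono_f := inferInstance, epi_g := inferInstance }
  let S := ShortComplex.mk (ClSub.unitToPush π) πQ (cokernel.condition _)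
  have hSa := CohFinite.shortExact_toAb hS
  -- the endomorphism of the sequence
  let ψ : Coh.toAb P ⟶ Coh.toAb P := (CohTop.push π.base).map φ'
  have hψ : ∀ (V : C.Opens) (s : Γ(C', π ⁻¹ᵁ V)), (ψ.hom.app (op V)).hom s = (s ^ p : Γ(C', π ⁻¹ᵁ V)) :=
    fun V s => hφ' (π ⁻¹ᵁ V) s
  let i : Coh.toAb (Coh.structureModule C) ⟶ Coh.toAb P := (S.map (CohQC.toAbF C)).f
  let g : Coh.toAb P ⟶ Coh.toAb Q := (S.map (CohQC.toAbF C)).g
  have hi : φ ≫ i = i ≫ ψ := by
    refine Sheaf.hom_ext ?_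
    refine NatTrans.ext (funext fun V => ?_)
    obtain ⟨V, rfl⟩ : ∃ W, op W = V := ⟨V.unop, rfl⟩
    ext s
    show π.app V ((φ.hom.app (op V)).hom s) = (ψ.hom.app (op V)).hom (π.app V s)
    rw [hψ, hφ V s]
    exact map_pow (π.app V).hom (show Γ(C, V) from s) p
  haveI : Epi g := hSa.epi_g
  obtain ⟨θ, hθ⟩ : ∃ θ : Coh.toAb Q ⟶ Coh.toAb Q, g ≫ θ = ψ ≫ g :=
    ⟨_, (CokernelCofork.IsColimit.desc' hSa.gIsCokernel (ψ ≫ g)
      (by rw [← Category.assoc]; change (i ≫ ψ) ≫ g = 0; rw [← hi, Category.assoc]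
          exact (congrArg (φ ≫ ·) (S.map (CohQC.toAbF C)).zero).trans comp_zero)).2⟩
  let Φ : S.map (CohQC.toAbF C) ⟶ S.map (CohQC.toAbF C) := ShortComplex.homMk φ ψ θ hi hθ.symm
  -- semilinearity
  have hψs : ∀ r : Coh.Γtop C, Coh.smulAb P r ≫ ψ = ψ ≫ Coh.smulAb P (r ^ p) := fun r => by
    refine Sheaf.hom_ext ?_
    refine NatTrans.ext (funext fun V => ?_)
    obtain ⟨V, rfl⟩ : ∃ W, op W = V := ⟨V.unop, rfl⟩
    ext s
    show (ψ.hom.app (op V)).hom (π.app V (resO C (le_top : V ≤ ⊤) r) * (show Γ(C', π ⁻¹ᵁ V) from s)) =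
      π.app V (resO C (le_top : V ≤ ⊤) (r ^ p)) * (show Γ(C', π ⁻¹ᵁ V) from (ψ.hom.app (op V)).hom s)
    rw [hψ, hψ, mul_pow, map_pow, map_pow]
  have hθs : ∀ r : Coh.Γtop C, Coh.smulAb Q r ≫ θ = θ ≫ Coh.smulAb Q (r ^ p) := fun r => by
    have h1 : Coh.smulAb P r ≫ g = g ≫ Coh.smulAb Q r := (CohFinite.smulSeq S r).comm₂₃
    have h2 : Coh.smulAb P (r ^ p) ≫ g = g ≫ Coh.smulAb Q (r ^ p) := (CohFinite.smulSeq S (r ^ p)).comm₂₃
    rw [← cancel_epi g, ← Category.assoc, ← h1, Category.assoc, hθ, ← Category.assoc, hψs, Category.assoc, h2,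
      ← Category.assoc, ← hθ, Category.assoc]
  have hfin : ∀ G : C.Modules, Coh.IsCoh G → Module.Finite k Γ(G, ⊤) := fun G hG => by
    haveI := CohFinite.finite_proper (A := k) C G hG 0
    exact Module.Finite.equiv (CurveRR.secH0 (k := k) G).symm
  have hsemi : ∀ (G : C.Modules) (T : Coh.toAb G ⟶ Coh.toAb G),
      (∀ r : Coh.Γtop C, Coh.smulAb G r ≫ T = T ≫ Coh.smulAb G (r ^ p)) → Coh.IsCoh G →
      Function.Injective (T.hom.app (op (⊤ : C.Opens))) → Function.Bijective (T.hom.app (op (⊤ : C.Opens))) := by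
    intro G T hT hG hinj
    haveI := hfin G hG
    refine ⟨hinj, surjective_of_semilinear p hpk
      (show Γ(G, ⊤) →+ Γ(G, ⊤) from (T.hom.app (op (⊤ : C.Opens))).hom) (fun c v => ?_) hinj⟩
    have := congrArg (fun f : Coh.toAb G ⟶ Coh.toAb G => (f.hom.app (op (⊤ : C.Opens))).hom v)
      (hT (Coh.toGlobal (C ↘ Spec (CommRingCat.of k)) c))
    rw [← map_pow] at this
    exact this
  -- surjectivity on functions of the normalization
  have hψ0 : Function.Bijective (Sheaf.H.map ψ 0) := by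
    refine bijective_H0_map ψ (hsemi P ψ hψs hP fun s t hst => ?_)
    rw [hψ, hψ] at hst
    exact pow_inj p (hchar _) hst
  -- injectivity on the cokernel
  have hθ0 : Function.Bijective (Sheaf.H.map θ 0) := by
    refine bijective_H0_map θ (hsemi Q θ hθs hQ ((injective_iff_map_eq_zero _).2 fun (q : Γ(Q, ⊤)) hq => ?_))
    have hclosed : ∀ x : C, IsClosed ({x} : Set C) →
        ∃ (V : C.Opens), x ∈ V ∧ res Q (le_top : V ≤ ⊤) q = 0 := fun x hx => by
      obtain ⟨W, hW, hxW, -⟩ := exists_isAffineOpen_mem_and_subset (U := (⊤ : C.Opens)) (x := x) trivial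
      obtain ⟨b, hb⟩ := QC.app_surjective_of_epi hW hP.1 hQ.1 πQ (res Q (le_top : W ≤ ⊤) q)
      let b' : Γ(C', π ⁻¹ᵁ W) := b
      have h1 : (θ.hom.app (op W)).hom (res Q (le_top : W ≤ ⊤) q) = 0 := by
        refine (congrArg (fun f => f.hom q) (θ.hom.naturality (homOfLE (le_top : W ≤ ⊤)).op)).trans ?_
        show res Q (le_top : W ≤ ⊤) ((θ.hom.app (op (⊤ : C.Opens))).hom q) = 0
        rw [show (θ.hom.app (op (⊤ : C.Opens))).hom q = 0 from hq]
        exact map_zero _
      have h2 : πQ.app W (b' ^ p) = 0 := by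
        rw [← hψ]
        refine (congrArg (fun f : Coh.toAb P ⟶ Coh.toAb Q => (f.hom.app (op W)).hom b) hθ).symm.trans ?_
        refine Eq.trans ?_ h1
        exact congrArg (θ.hom.app (op W)).hom hb
      obtain ⟨a, ha⟩ := SiteCoh.sections_exact hSa W (b' ^ p) h2
      obtain ⟨V, hV, hxV, hV0⟩ := exists_res_eq_zero π U p hchar hU hπU hP.1 hQ.1 (hR x hx) hW hxW b' a ha
      refine ⟨V, hxV, ?_⟩
      rw [← res_res Q hV (le_top : W ≤ ⊤) q, ← hb]
      exact hV0
    refine QC.section_eq_of_locally fun y _ => ?_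
    haveI : CompactSpace C := QuasiCompact.compactSpace_of_compactSpace (C ↘ Spec (CommRingCat.of k))
    obtain ⟨x, hxy, hx⟩ := isClosed_closure.exists_closed_singleton (S := closure ({y} : Set C))
      ⟨y, subset_closure rfl⟩
    obtain ⟨V, hxV, hV⟩ := hclosed x hx
    exact ⟨V, le_top, (specializes_iff_mem_closure.2 hxy).mem_open V.2 hxV, hV.trans (map_zero _).symm⟩
  -- the cokernel has no higher cohomology
  have hQ1 : Subsingleton (Coh.HH C Q 1) := by
    refine SuppZero.subsingleton_hh_of_supported U.2.isClosed_compl (CurveRR.dim_compl_le_zero hdim U hU) _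
      (fun y hy => ?_) 1 le_rfl
    intro hyS
    have hyU : y ∈ U := not_not.1 hy
    exact hyS (by
      refine subsingleton_of_forall_eq 0 fun z => ?_
      obtain ⟨V, hV, s, rfl⟩ := TopCat.Presheaf.exists_germ_eq Q.presheaf z
      obtain ⟨W, hW, hyW, hWV⟩ := exists_isAffineOpen_mem_and_subset (U := V ⊓ U) (x := y) ⟨hV, hyU⟩
      have hWle : W ≤ V := fun z hz => (hWV hz).1
      have hW0 : res Q hWle s = 0 := by
        obtain ⟨b, hb⟩ := QC.app_surjective_of_epi hW hP.1 hQ.1 πQ (res Q hWle s)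
        obtain ⟨a, ha⟩ := (DeltaNorm.bijective_app π U hπU (V := W) fun z hz => (hWV hz).2).2 b
        rw [← hb, ← ha]
        exact congrArg (fun ψ : Coh.structureModule C ⟶ Q => ψ.app W a) (cokernel.condition _)
      rw [← WeakAssLib.mgerm_res Q hWle hyW s, hW0]
      exact map_zero _)
  -- the sequence in degrees `0`, `1`
  have key := bijective_iff_of_les (Sheaf.H.map g 0) (CohFinite.δH hSa 0) (Sheaf.H.map i 1)
    (Sheaf.H.map ψ 0) (Sheaf.H.map θ 0) (Sheaf.H.map φ 1) (Sheaf.H.map ψ 1)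
    (fun q => CohFinite.δH_eq_zero_iff hSa 0 q) (fun a => CohFinite.map_f_eq_zero_iff hSa 0 a)
    (fun y => (CohFinite.map_g_eq_zero_iff hSa 1 y).1 (@Subsingleton.elim _ hQ1 _ _))
    (fun b => by rw [← Sheaf.H.map_comp_apply, ← Sheaf.H.map_comp_apply, hθ])
    (fun q => CohFinite.δH_natural hSa hSa Φ 0 q)
    (fun a => (Sheaf.H.map_comp_apply φ i a).symm.trans ((congrArg (fun f => Sheaf.H.map f 1 a) hi).trans (Sheaf.H.map_comp_apply i ψ a)))
    hψ0.2 hθ0
  refine key.trans ?_
  -- cohomology of the direct image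
  obtain ⟨e, he⟩ := DualPush.h_push_natural' π.base 1
  haveI : (Coh.structureModule C').IsQuasicoherent := QC.isQCoh_unit C'
  have hac := CohQC.directAcyclic_of_isAffineHom π (Coh.structureModule C')
  let E := e (Coh.toAb (Coh.structureModule C')) hac
  have hE : ∀ x, E (Sheaf.H.map φ' 1 x) = Sheaf.H.map ψ 1 (E x) := he _ _ hac hac φ'
  constructor
  · intro hb
    exact ⟨fun x y hxy => E.injective (hb.1 ((hE x).symm.trans ((congrArg E hxy).trans (hE y)))),
      fun y => let ⟨z, hz⟩ := hb.2 (E y); ⟨E.symm z, E.injective (by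
        rw [hE]; exact (congrArg _ (E.apply_symm_apply z)).trans hz)⟩⟩
  · intro hb
    refine ⟨fun x y hxy => ?_, fun y => ?_⟩
    · obtain ⟨x, rfl⟩ := E.surjective x
      obtain ⟨y, rfl⟩ := E.surjective y
      rw [← hE, ← hE] at hxy
      exact congrArg E (hb.1 (E.injective hxy))
    · obtain ⟨y, rfl⟩ := E.surjective y
      obtain ⟨z, rfl⟩ := hb.2 y
      exact ⟨E z, (hE z).symm⟩

end Groth.Agent.FrobNorm
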