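import Groth.Agent.DeltaNorm.Sch
import Groth.Agent.Catenary.Jacobson
import Groth.Agent.FrobNorm.Alg

/-! Sections of `π_* O` with `p`-th power in `O` are in `O`, near points whose stalk is `p`-closed. -/

set_option autoImplicit false
set_option backward.isDefEq.respectTransparency false
set_option backward.isDefEq.respectTransparency.types false
set_option maxHeartbeats 1000000
universe u

open CategoryTheory CategoryTheory.Limits AlgebraicGeometry TopologicalSpace Opposite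
open Groth.Agent.QC (res resO res_res res_smul)
open scoped nonZeroDivisors

namespace Groth.Agent.FrobNorm

open Groth.Agent

variable {X X' : Scheme.{u}} (π : X' ⟶ X) (U : X.Opens)

/-- A nonzerodivisor of an affine open cutting out a principal open inside a dense open. -/
theorem exists_nzd_basicOpen_le [IsLocallyNoetherian X] [AlgebraicGeometry.IsReduced X] (hU : Dense (U : Set X))
    {W : X.Opens} (hW : IsAffineOpen W) : ∃ g : Γ(X, W), g ∈ Γ(X, W)⁰ ∧ X.basicOpen g ≤ U := by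
  haveI : IsNoetherianRing Γ(X, W) := IsLocallyNoetherian.component_noetherian ⟨W, hW⟩
  obtain ⟨I, hI⟩ := (PrimeSpectrum.isClosed_iff_zeroLocus_ideal _).1 (U.2.preimage hW.fromSpec.continuous).isClosed_compl
  have hnot : ¬ (I : Set Γ(X, W)) ⊆ ⋃ q ∈ minimalPrimes Γ(X, W), (q : Set Γ(X, W)) := fun hsub => by
    obtain ⟨q, hqm, hIq⟩ := (Ideal.subset_union_prime_finite (minimalPrimes.finite_of_isNoetherianRing _) ⊥ ⊥
      (fun q hq _ _ => hq.1.1)).1 hsub
    haveI := hqm.1.1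
    have hmax : Unibranch.IsMaxPt (hW.fromSpec ⟨q, hqm.1.1⟩) := fun z hz => by
      have hzW : z ∈ W := hz.mem_open W.2 (hW.range_fromSpec.le ⟨_, rfl⟩)
      obtain ⟨r, rfl⟩ := hW.range_fromSpec.ge hzW
      have h1 : r ⤳ ⟨q, hqm.1.1⟩ := hW.fromSpec.isOpenEmbedding.isInducing.specializes_iff.1 hz
      have h2 : r.asIdeal ≤ q := (PrimeSpectrum.le_iff_specializes _ _).2 h1
      exact congrArg hW.fromSpec (PrimeSpectrum.ext (le_antisymm h2 (hqm.2 ⟨r.2, bot_le⟩ h2)))
    have h1 : (⟨q, hqm.1.1⟩ : PrimeSpectrum Γ(X, W)) ∈ PrimeSpectrum.zeroLocus (I : Set Γ(X, W)) := hIq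
    rw [← hI] at h1
    exact h1 (Catenary.isMaxPt_mem_of_dense hmax U.2 hU)
  obtain ⟨g, hgI, hgn⟩ := Set.not_subset.1 hnot
  haveI : Finite (NagataOne.Min Γ(X, W)) := NagataOne.finite_min _
  refine ⟨g, (NagataOne.mem_nonZeroDivisors_iff_forall_notMem _).2 fun q hq => hgn (Set.mem_biUnion q.2 hq),
    fun z hz => by_contra fun hzU => ?_⟩
  have hzW := X.basicOpen_le g hz
  have h1 : hW.primeIdealOf ⟨z, hzW⟩ ∈ PrimeSpectrum.zeroLocus (I : Set Γ(X, W)) := by
    rw [← hI]
    intro h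
    rw [Set.mem_preimage, hW.fromSpec_primeIdealOf ⟨z, hzW⟩] at h
    exact hzU h
  exact (WeakAssLib.mem_primeIdealOf hW hzW g).1 hz (h1 hgI)

/-- **The key local step.** -/
theorem exists_res_eq_zero (p : ℕ) [Fact p.Prime] [IsLocallyNoetherian X] [AlgebraicGeometry.IsReduced X]
    [AlgebraicGeometry.IsReduced X'] (hchar : ∀ V : X'.Opens, (p : Γ(X', V)) = 0)
    (hU : Dense (U : Set X)) (hπU : IsIso (π ∣_ U))
    (hP : Coh.IsQCoh ((Scheme.Modules.pushforward π).obj (Coh.structureModule X')))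
    (hQ : Coh.IsQCoh (DeltaNorm.Q π)) {x : X}
    (hR : ∀ a c d : X.presheaf.stalk x, d ∈ (X.presheaf.stalk x)⁰ → c ^ p = a * d ^ p → d ∣ c)
    {W : X.Opens} (hW : IsAffineOpen W) (hxW : x ∈ W) (b : Γ(X', π ⁻¹ᵁ W)) (a : Γ(X, W))
    (hab : π.app W a = b ^ p) :
    ∃ (V : X.Opens) (hV : V ≤ W), x ∈ V ∧
      res (DeltaNorm.Q π) hV ((cokernel.π (ClSub.unitToPush π)).app W b) = 0 := by
  classical
  haveI : (DeltaNorm.Q π).IsQuasicoherent := hQ
  let πQ := cokernel.π (ClSub.unitToPush π)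
  obtain ⟨g, hg, hgU⟩ := exists_nzd_basicOpen_le U hU hW
  have h0 : res (DeltaNorm.Q π) (X.basicOpen_le g) (πQ.app W b) = 0 := by
    obtain ⟨a', ha'⟩ := (DeltaNorm.bijective_app π U hπU hgU).2
      (X'.presheaf.map (homOfLE (π.preimage_mono (X.basicOpen_le g))).op b)
    have hn : res (DeltaNorm.Q π) (X.basicOpen_le g) (πQ.app W b) =
        πQ.app (X.basicOpen g) (X'.presheaf.map (homOfLE (π.preimage_mono (X.basicOpen_le g))).op b) :=
      (congrArg (fun φ => φ.hom b) (πQ.mapPresheaf.naturality (homOfLE (X.basicOpen_le g)).op)).symm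
    rw [hn, ← ha']
    exact congrArg (fun ψ : Coh.structureModule X ⟶ DeltaNorm.Q π => ψ.app (X.basicOpen g) a')
      (cokernel.condition (ClSub.unitToPush π))
  obtain ⟨m, hm⟩ := QC.exists_pow_smul_eq_zero_of_isCompact hW.isCompact g _ h0
  obtain ⟨c, hc⟩ : ∃ c : Γ(X, W), π.app W c = π.app W (g ^ m) * b := by
    haveI := DeltaNorm.mono_unitToPush π U hU hπU
    have hS : (ShortComplex.mk (ClSub.unitToPush π) πQ (cokernel.condition _)).ShortExact :=
      { exact := ShortComplex.exact_cokernel _, mono_f := inferInstance, epi_g := inferInstance }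
    obtain ⟨c, hc⟩ := SiteCoh.sections_exact (CohFinite.shortExact_toAb hS) W (π.app W (g ^ m) * b)
      ((TMul.app_smul πQ (g ^ m) b).trans hm)
    exact ⟨c, hc⟩
  have hcp : c ^ p = a * (g ^ m) ^ p := by
    refine DeltaNorm.injective_app π U hU hπU W ?_
    show π.app W (c ^ p) = π.app W (a * (g ^ m) ^ p)
    rw [map_pow, map_mul, hc, hab, mul_pow, map_pow (π.app W).hom (g ^ m) p, mul_comm]
  let A := Γ(X, W)
  letI : Algebra A (X.presheaf.stalk x) := TopCat.Presheaf.algebra_section_stalk X.presheaf (⟨x, hxW⟩ : W)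
  haveI : IsLocalization.AtPrime (X.presheaf.stalk x) (hW.primeIdealOf ⟨x, hxW⟩).asIdeal :=
    hW.isLocalization_stalk ⟨x, hxW⟩
  have hd : X.presheaf.germ W x hxW (g ^ m) ∈ (X.presheaf.stalk x)⁰ :=
    IsLocalization.map_nonZeroDivisors_le (hW.primeIdealOf ⟨x, hxW⟩).asIdeal.primeCompl (X.presheaf.stalk x)
      ⟨g ^ m, pow_mem hg m, rfl⟩
  obtain ⟨e, he⟩ := hR (X.presheaf.germ W x hxW a) (X.presheaf.germ W x hxW c) _ hd
    (by rw [← map_pow, ← map_pow, ← map_mul, hcp])
  obtain ⟨V₁, hxV₁, e₁, rfl⟩ := X.presheaf.exists_germ_eq e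
  have hae : X.presheaf.germ W x hxW a = X.presheaf.germ V₁ x hxV₁ e₁ ^ p := by
    refine (mul_cancel_left_mem_nonZeroDivisors (pow_mem hd p)).1 ?_
    rw [← mul_pow, ← he, ← map_pow (X.presheaf.germ W x hxW).hom c p, hcp]
    simp only [map_mul, map_pow]
    ring
  rw [← map_pow] at hae
  obtain ⟨V, hxV, iW, i₁, hVeq⟩ := X.presheaf.germ_eq x hxW hxV₁ a (e₁ ^ p) hae
  refine ⟨V, iW.le, hxV, ?_⟩
  have hn : res (DeltaNorm.Q π) iW.le (πQ.app W b) =
      πQ.app V (X'.presheaf.map (homOfLE (π.preimage_mono iW.le)).op b) :=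
    (congrArg (fun φ => φ.hom b) (πQ.mapPresheaf.naturality (homOfLE iW.le).op)).symm
  have hb : X'.presheaf.map (homOfLE (π.preimage_mono iW.le)).op b = π.app V (X.presheaf.map i₁.op e₁) := by
    refine pow_inj p (hchar _) ?_
    rw [← map_pow, ← map_pow, ← map_pow, ← hVeq, ← hab]
    exact (congrArg (fun φ => φ.hom a) (π.naturality iW.op)).symm
  rw [hn, hb]
  exact congrArg (fun ψ : Coh.structureModule X ⟶ DeltaNorm.Q π => ψ.app V (X.presheaf.map i₁.op e₁))
    (cokernel.condition (ClSub.unitToPush π))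

end Groth.Agent.FrobNorm
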